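import Cfsg.Agent.H315.CY.TwFRow

/-!
# The orders in `²F₄(8)` (helper371, S2452)

`Q` a split (B, N)-pair of `twistedF4 K (2 ^ 1)`, `|K| = 8`, as in `H315.CY.exists_pairE`, `Pi = Q.parabolic {m2 hφ}`:

* `card_U`, `card_V8`, `card_QB`, `card_Pi`, `index_Pi`, `card_G`;
* `nineteen_dvd`, `nineteen_not_dvd`, `five_not_dvd`, `coprime_5461`, `nineteen_sq`.
-/

set_option autoImplicit false
set_option linter.unusedSectionVars false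

namespace Cfsg.Agent.H371.TF8

open Cfsg Cfsg.Lie
open Cfsg.Agent.ChevalleyStructure.TwF4.TwistedFix
open Cfsg.Agent.Schreier.TwFFour Cfsg.Agent.Schreier.BNSch
open Cfsg.Agent.Octagon.KSys Cfsg.Agent.H315.CY

variable {K : Type*} [Field K] [Fintype K] [CharP K 2] {φ : K →+* K}

theorem card_G (hK : Fintype.card K = 2 ^ (2 * 1 + 1)) :
    Nat.card ↥(twistedF4 K (2 ^ 1)) = 8 ^ 12 * 49 * 65 * (262145 * 513 * 9) := by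
  rw [Cfsg.Agent.S1068.result hK]
  norm_num

theorem card_U (hK : Fintype.card K = 2 ^ (2 * 1 + 1)) (hφ : Rln φ (2 ^ 1)) : Nat.card (U0 K (2 ^ 1)) = 8 ^ 12 := by
  obtain ⟨Q, -, -, -, -, -, -, h, -⟩ := exists_pairE (m := 1) le_rfl hK hφ
  rw [h]; norm_num

theorem card_V8 (hK : Fintype.card K = 2 ^ (2 * 1 + 1)) (hφ : Rln φ (2 ^ 1)) : Nat.card (V8 K (2 ^ 1)) = 2 ^ 30 := by
  obtain ⟨Q, -, -, -, hV, -, h, -, -⟩ := exists_pairE (m := 1) le_rfl hK hφ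
  have h1 : Nat.card (V8 K (2 ^ 1)) * (V8 K (2 ^ 1)).relIndex (U0 K (2 ^ 1)) = Nat.card (U0 K (2 ^ 1)) := by
    have := Subgroup.relIndex_mul_relIndex ⊥ (V8 K (2 ^ 1)) (U0 K (2 ^ 1)) bot_le hV.le
    rwa [Subgroup.relIndex_bot_left, Subgroup.relIndex_bot_left] at this
  rw [h, card_U hK hφ] at h1
  norm_num at h1 ⊢
  omega

theorem card_QB (hK : Fintype.card K = 2 ^ (2 * 1 + 1)) (hφ : Rln φ (2 ^ 1))
    {Q : BNPair ↥(twistedF4 K (2 ^ 1))} (hsp : FixBN.Split Q 2 (U0 K (2 ^ 1))) : Nat.card Q.B = 8 ^ 12 * 49 := by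
  have : Fact (Nat.Prime 2) := ⟨Nat.prime_two⟩
  obtain ⟨Q', hsp', -, -, -, -, -, h, h'⟩ := exists_pairE (m := 1) le_rfl hK hφ
  have h1 : Q.B = Q'.B := by rw [← hsp.normalizer_eq, ← hsp'.normalizer_eq]
  rw [h1, Cfsg.Agent.H978.BR.card_B hsp', h, h']
  norm_num

theorem card_Pi (hK : Fintype.card K = 2 ^ (2 * 1 + 1)) (hφ : Rln φ (2 ^ 1))
    {Q : BNPair ↥(twistedF4 K (2 ^ 1))} (hsp : FixBN.Split Q 2 (U0 K (2 ^ 1)))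
    (hQS : Q.S = {m1 K (2 ^ 1), m2 hφ}) (hV : Node Q (U0 K (2 ^ 1)) (m2 hφ) (V8 K (2 ^ 1))) :
    Nat.card (Q.parabolic {m2 hφ}) = 8 ^ 12 * 49 * 65 := by
  obtain ⟨Q', -, -, -, -, -, h, -, -⟩ := exists_pairE (m := 1) le_rfl hK hφ
  rw [Cfsg.Agent.H978.BR.card_par hsp (by rw [hQS]; exact Or.inr rfl) hV, h, card_QB hK hφ hsp]
  norm_num

theorem index_Pi (hK : Fintype.card K = 2 ^ (2 * 1 + 1)) (hφ : Rln φ (2 ^ 1))
    {Q : BNPair ↥(twistedF4 K (2 ^ 1))} (hsp : FixBN.Split Q 2 (U0 K (2 ^ 1)))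
    (hQS : Q.S = {m1 K (2 ^ 1), m2 hφ}) (hV : Node Q (U0 K (2 ^ 1)) (m2 hφ) (V8 K (2 ^ 1))) :
    (Q.parabolic {m2 hφ}).index = 262145 * 513 * 9 := by
  have h1 := (Q.parabolic {m2 hφ}).card_mul_index
  rw [card_Pi hK hφ hsp hQS hV, card_G hK] at h1
  exact Nat.eq_of_mul_eq_mul_left (by norm_num) h1

/-- `19` divides the index of `Pi` -/
theorem nineteen_dvd (hK : Fintype.card K = 2 ^ (2 * 1 + 1)) (hφ : Rln φ (2 ^ 1))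
    {Q : BNPair ↥(twistedF4 K (2 ^ 1))} (hsp : FixBN.Split Q 2 (U0 K (2 ^ 1)))
    (hQS : Q.S = {m1 K (2 ^ 1), m2 hφ}) (hV : Node Q (U0 K (2 ^ 1)) (m2 hφ) (V8 K (2 ^ 1))) :
    19 ∣ (Q.parabolic {m2 hφ}).index := by
  rw [index_Pi hK hφ hsp hQS hV]
  norm_num

/-- `19 ^ 2` does not divide the index of `Pi` -/
theorem nineteen_sq (hK : Fintype.card K = 2 ^ (2 * 1 + 1)) (hφ : Rln φ (2 ^ 1))
    {Q : BNPair ↥(twistedF4 K (2 ^ 1))} (hsp : FixBN.Split Q 2 (U0 K (2 ^ 1)))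
    (hQS : Q.S = {m1 K (2 ^ 1), m2 hφ}) (hV : Node Q (U0 K (2 ^ 1)) (m2 hφ) (V8 K (2 ^ 1))) :
    ¬ 19 ^ 2 ∣ (Q.parabolic {m2 hφ}).index := by
  rw [index_Pi hK hφ hsp hQS hV]
  norm_num

theorem nineteen_not_dvd (hK : Fintype.card K = 2 ^ (2 * 1 + 1)) (hφ : Rln φ (2 ^ 1))
    {Q : BNPair ↥(twistedF4 K (2 ^ 1))} (hsp : FixBN.Split Q 2 (U0 K (2 ^ 1)))
    (hQS : Q.S = {m1 K (2 ^ 1), m2 hφ}) (hV : Node Q (U0 K (2 ^ 1)) (m2 hφ) (V8 K (2 ^ 1))) :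
    ¬ 19 ∣ Nat.card (Q.parabolic {m2 hφ}) := by
  rw [card_Pi hK hφ hsp hQS hV]
  norm_num

theorem five_not_dvd (hK : Fintype.card K = 2 ^ (2 * 1 + 1)) (hφ : Rln φ (2 ^ 1))
    {Q : BNPair ↥(twistedF4 K (2 ^ 1))} (hsp : FixBN.Split Q 2 (U0 K (2 ^ 1))) : ¬ 5 ∣ Nat.card Q.B := by
  rw [card_QB hK hφ hsp]
  norm_num

theorem coprime_5461 (hK : Fintype.card K = 2 ^ (2 * 1 + 1)) : Nat.Coprime (Nat.card ↥(twistedF4 K (2 ^ 1))) 5461 := by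
  rw [card_G hK]
  norm_num

end Cfsg.Agent.H371.TF8
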