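import Cfsg.Agent.H371.TF8.Num
import Cfsg.Agent.H371.TC.FTwoM

/-!
# `²F₄(8)`: elements of order 35 and 19, `B / U` abelian (helper371, S2452)

`Q` a split (B, N)-pair of `twistedF4 K (2 ^ 1)`, `|K| = 8`, as in `H315.CY.exists_pairE`:

* `hyB` : elements of order 35 have no conjugates in `Q.B`;
* `hxP` : elements of order 19 have no conjugates in `Q.parabolic {m2 hφ}`;
* `hBU`, `hBU'` : the commutators of `Q.B` are in `U0`; `hUn` : `U0` is normal in `Q.B`.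
-/

set_option autoImplicit false
set_option linter.unusedSectionVars false

namespace Cfsg.Agent.H371.TF8

open Cfsg Cfsg.Lie
open Cfsg.Agent.KFacts.TwF4 Cfsg.Agent.KFacts.TwF4.Inst
open Cfsg.Agent.SplitTwo Cfsg.Agent.SplitTwo.ZS Cfsg.Agent.TitsThree.RankTwoZ
open Cfsg.Agent.ChevalleyStructure.TwF4.TwistedFix
open Cfsg.Agent.Schreier.TwFFour Cfsg.Agent.Schreier.BNSch
open Cfsg.Agent.Octagon.KSys Cfsg.Agent.H315.CY Cfsg.Agent.H84.GaussTwF4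

section frame

universe u

variable {F : Type*} [Field F] {σ : F →+* F} {G : Type u} [Group G] {S : Full σ G}

/-- commutators of `J 1 8 · T` are in `J 1 8` -/
theorem comm_mem {b c : G} (hb : ∃ u ∈ J S.XZ 1 8, ∃ t ∈ S.T, b = u * t)
    (hc : ∃ u ∈ J S.XZ 1 8, ∃ t ∈ S.T, c = u * t) : b * c * b⁻¹ * c⁻¹ ∈ J S.XZ 1 8 := by
  obtain ⟨u, hu, t, ht, rfl⟩ := hb
  obtain ⟨v, hv, s, hs, rfl⟩ := hc
  have h1 : t * v * t⁻¹ ∈ J S.XZ 1 8 := S.T_conj_J ht hv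
  have h2 : s * u * s⁻¹ ∈ J S.XZ 1 8 := S.T_conj_J hs hu
  have h3 := T_comm ht hs
  have e : u * t * (v * s) * (u * t)⁻¹ * (v * s)⁻¹ = u * (t * v * t⁻¹) * (s * u * s⁻¹)⁻¹ * v⁻¹ := by
    calc u * t * (v * s) * (u * t)⁻¹ * (v * s)⁻¹
        = u * (t * v * t⁻¹) * (t * s) * t⁻¹ * u⁻¹ * s⁻¹ * v⁻¹ := by group
      _ = u * (t * v * t⁻¹) * (s * t) * t⁻¹ * u⁻¹ * s⁻¹ * v⁻¹ := by rw [h3]
      _ = _ := by group
  rw [e]
  exact mul_mem (mul_mem (mul_mem hu h1) (inv_mem h2)) (inv_mem hv)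

end frame

section model

variable {K : Type} [Field K] [Fintype K] [CharP K 2] {φ : K →+* K}

/-- elements of order 35 have no conjugates in `Q.B` -/
theorem hyB (hK : Fintype.card K = 2 ^ (2 * 1 + 1)) (hφ : Rln φ (2 ^ 1))
    {Q : BNPair ↥(twistedF4 K (2 ^ 1))} (hsp : FixBN.Split Q 2 (U0 K (2 ^ 1))) {y : ↥(twistedF4 K (2 ^ 1))}
    (hy : orderOf y = 35) : ∀ g : ↥(twistedF4 K (2 ^ 1)), g⁻¹ * y * g ∉ Q.B :=
  H371.TC.not_mem_of_order (five_not_dvd hK hφ hsp) hy (by norm_num)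

/-- elements of order 19 have no conjugates in `Q.parabolic {m2 hφ}` -/
theorem hxP (hK : Fintype.card K = 2 ^ (2 * 1 + 1)) (hφ : Rln φ (2 ^ 1))
    {Q : BNPair ↥(twistedF4 K (2 ^ 1))} (hsp : FixBN.Split Q 2 (U0 K (2 ^ 1)))
    (hQS : Q.S = {m1 K (2 ^ 1), m2 hφ}) (hV : Node Q (U0 K (2 ^ 1)) (m2 hφ) (V8 K (2 ^ 1)))
    {x : ↥(twistedF4 K (2 ^ 1))} (hx : orderOf x = 19) :
    ∀ g : ↥(twistedF4 K (2 ^ 1)), g⁻¹ * x * g ∉ Q.parabolic {m2 hφ} :=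
  H371.TC.not_mem_of_order (nineteen_not_dvd hK hφ hsp hQS hV) hx dvd_rfl

/-- `U0` is normal in `Q.B` -/
theorem hUn {Q : BNPair ↥(twistedF4 K (2 ^ 1))} (hsp : FixBN.Split Q 2 (U0 K (2 ^ 1))) :
    ∀ b ∈ Q.B, ∀ u ∈ U0 K (2 ^ 1), b * u * b⁻¹ ∈ U0 K (2 ^ 1) := hsp.norm

/-- `Q.B / U0` is abelian -/
theorem hBU (hK : Fintype.card K = 2 ^ (2 * 1 + 1)) (hφ : Rln φ (2 ^ 1))
    {Q : BNPair ↥(twistedF4 K (2 ^ 1))} (hsp : FixBN.Split Q 2 (U0 K (2 ^ 1))) :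
    ∀ b ∈ Q.B, ∀ c ∈ Q.B, b * c * b⁻¹ * c⁻¹ ∈ U0 K (2 ^ 1) := by
  intro b hb c hc
  rw [← J_eq hK hφ]
  exact comm_mem ((H371.TC.mem_QB le_rfl hK hφ hsp b).1 hb) ((H371.TC.mem_QB le_rfl hK hφ hsp c).1 hc)

/-- the same with `J 1 8` -/
theorem hBU' (hK : Fintype.card K = 2 ^ (2 * 1 + 1)) (hφ : Rln φ (2 ^ 1))
    {Q : BNPair ↥(twistedF4 K (2 ^ 1))} (hsp : FixBN.Split Q 2 (U0 K (2 ^ 1))) :
    ∀ b ∈ Q.B, ∀ c ∈ Q.B, b * c * b⁻¹ * c⁻¹ ∈ J (full hK hφ).XZ 1 8 :=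
  fun b hb c hc => comm_mem ((H371.TC.mem_QB le_rfl hK hφ hsp b).1 hb) ((H371.TC.mem_QB le_rfl hK hφ hsp c).1 hc)

end model

end Cfsg.Agent.H371.TF8
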