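import Cfsg.Agent.H371.TF8.Num

/-!
# `19 ^ 2` does not divide `|²F₄(8)|` (helper371, S2452)
-/

set_option autoImplicit false

namespace Cfsg.Agent.H371.TF8

open Cfsg Cfsg.Lie

variable {K : Type*} [Field K] [Fintype K] [CharP K 2]

theorem nineteen_sq_G (hK : Fintype.card K = 2 ^ (2 * 1 + 1)) : ¬ 19 ^ 2 ∣ Nat.card ↥(twistedF4 K (2 ^ 1)) := by
  rw [card_G hK]
  norm_num

theorem nineteen_dvd_G (hK : Fintype.card K = 2 ^ (2 * 1 + 1)) : 19 ∣ Nat.card ↥(twistedF4 K (2 ^ 1)) := by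
  rw [card_G hK]
  norm_num

theorem coprime_5461' (hK : Fintype.card K = 2 ^ (2 * 1 + 1)) : Nat.Coprime 5461 (Nat.card ↥(twistedF4 K (2 ^ 1))) :=
  (coprime_5461 hK).symm

end Cfsg.Agent.H371.TF8
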